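import Mathlib

set_option autoImplicit false
set_option maxRecDepth 100000

namespace Cfsg.Agent.Lib.Helper14.Syl8.D1

def pT : List (List ℕ) := [
  [0, 1, 2, 3, 4, 5, 6, 7],
  [6, 4, 7, 2, 0, 3, 1, 5],
  [4, 6, 3, 5, 1, 7, 0, 2],
  [5, 2, 0, 6, 3, 1, 7, 4],
  [2, 5, 1, 4, 7, 0, 3, 6],
  [7, 3, 5, 1, 6, 2, 4, 0],
  [1, 0, 5, 7, 6, 2, 4, 3],
  [3, 7, 6, 1, 2, 4, 5, 0],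
  [7, 3, 4, 0, 5, 6, 2, 1],
  [5, 2, 3, 4, 1, 7, 0, 6],
  [2, 5, 7, 6, 0, 3, 1, 4],
  [4, 6, 1, 2, 7, 0, 3, 5],
  [6, 4, 0, 5, 3, 1, 7, 2],
  [4, 6, 0, 5, 7, 1, 3, 2],
  [6, 4, 1, 2, 3, 0, 7, 5],
  [2, 5, 7, 4, 1, 3, 0, 6],
  [5, 2, 3, 6, 0, 7, 1, 4],
  [3, 7, 2, 0, 4, 5, 6, 1],
  [0, 1, 4, 7, 5, 6, 2, 3],
  [1, 0, 6, 3, 2, 4, 5, 7],
  [0, 1, 6, 3, 5, 4, 2, 7],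
  [1, 0, 4, 7, 2, 6, 5, 3],
  [7, 3, 5, 0, 4, 2, 6, 1],
  [3, 7, 2, 1, 6, 5, 4, 0],
  [1, 0, 4, 7, 2, 6, 5, 3],
  [0, 1, 6, 3, 5, 4, 2, 7],
  [3, 7, 2, 1, 6, 5, 4, 0],
  [7, 3, 5, 0, 4, 2, 6, 1],
  [3, 7, 5, 1, 4, 2, 6, 0],
  [7, 3, 2, 0, 6, 5, 4, 1],
  [0, 1, 4, 3, 2, 6, 5, 7],
  [1, 0, 6, 7, 5, 4, 2, 3],
  [7, 3, 2, 0, 6, 5, 4, 1],
  [3, 7, 5, 1, 4, 2, 6, 0],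
  [1, 0, 6, 7, 5, 4, 2, 3],
  [0, 1, 4, 3, 2, 6, 5, 7],
  [3, 7, 2, 0, 4, 5, 6, 1],
  [1, 0, 4, 3, 5, 6, 2, 7],
  [0, 1, 6, 7, 2, 4, 5, 3],
  [2, 5, 1, 6, 3, 0, 7, 4],
  [5, 2, 0, 4, 7, 1, 3, 6],
  [6, 4, 3, 5, 0, 7, 1, 2],
  [4, 6, 7, 2, 1, 3, 0, 5],
  [6, 4, 1, 2, 3, 0, 7, 5],
  [4, 6, 0, 5, 7, 1, 3, 2],
  [5, 2, 3, 6, 0, 7, 1, 4],
  [2, 5, 7, 4, 1, 3, 0, 6],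
  [2, 5, 3, 4, 0, 7, 1, 6],
  [5, 2, 7, 6, 1, 3, 0, 4],
  [6, 4, 0, 2, 7, 1, 3, 5],
  [4, 6, 1, 5, 3, 0, 7, 2],
  [5, 2, 7, 6, 1, 3, 0, 4],
  [2, 5, 3, 4, 0, 7, 1, 6],
  [4, 6, 1, 5, 3, 0, 7, 2],
  [6, 4, 0, 2, 7, 1, 3, 5],
  [2, 5, 7, 6, 0, 3, 1, 4],
  [4, 6, 0, 2, 3, 1, 7, 5],
  [6, 4, 1, 5, 7, 0, 3, 2],
  [7, 3, 4, 1, 2, 6, 5, 0],
  [3, 7, 6, 0, 5, 4, 2, 1],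
  [1, 0, 2, 3, 6, 5, 4, 7],
  [0, 1, 5, 7, 4, 2, 6, 3],
  [5, 2, 3, 4, 1, 7, 0, 6],
  [6, 4, 1, 5, 7, 0, 3, 2],
  [4, 6, 0, 2, 3, 1, 7, 5],
  [3, 7, 6, 0, 5, 4, 2, 1],
  [7, 3, 4, 1, 2, 6, 5, 0],
  [0, 1, 5, 7, 4, 2, 6, 3],
  [1, 0, 2, 3, 6, 5, 4, 7],
  [6, 4, 0, 5, 3, 1, 7, 2],
  [2, 5, 3, 6, 1, 7, 0, 4],
  [5, 2, 7, 4, 0, 3, 1, 6],
  [0, 1, 2, 7, 6, 5, 4, 3],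
  [1, 0, 5, 3, 4, 2, 6, 7],
  [7, 3, 6, 1, 5, 4, 2, 0],
  [3, 7, 4, 0, 2, 6, 5, 1],
  [4, 6, 1, 2, 7, 0, 3, 5],
  [5, 2, 7, 4, 0, 3, 1, 6],
  [2, 5, 3, 6, 1, 7, 0, 4],
  [1, 0, 5, 3, 4, 2, 6, 7],
  [0, 1, 2, 7, 6, 5, 4, 3],
  [3, 7, 4, 0, 2, 6, 5, 1],
  [7, 3, 6, 1, 5, 4, 2, 0],
  [1, 0, 5, 7, 6, 2, 4, 3],
  [7, 3, 6, 0, 2, 4, 5, 1],
  [3, 7, 4, 1, 5, 6, 2, 0],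
  [7, 3, 5, 1, 6, 2, 4, 0],
  [0, 1, 6, 7, 2, 4, 5, 3],
  [1, 0, 4, 3, 5, 6, 2, 7],
  [5, 2, 0, 4, 7, 1, 3, 6],
  [2, 5, 1, 6, 3, 0, 7, 4],
  [4, 6, 7, 2, 1, 3, 0, 5],
  [6, 4, 3, 5, 0, 7, 1, 2],
  [1, 0, 6, 3, 2, 4, 5, 7],
  [7, 3, 2, 1, 4, 5, 6, 0],
  [3, 7, 5, 0, 6, 2, 4, 1],
  [6, 4, 7, 5, 1, 3, 0, 2],
  [4, 6, 3, 2, 0, 7, 1, 5],
  [5, 2, 1, 4, 3, 0, 7, 6],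
  [2, 5, 0, 6, 7, 1, 3, 4],
  [0, 1, 4, 7, 5, 6, 2, 3],
  [3, 7, 5, 0, 6, 2, 4, 1],
  [7, 3, 2, 1, 4, 5, 6, 0],
  [4, 6, 3, 2, 0, 7, 1, 5],
  [6, 4, 7, 5, 1, 3, 0, 2],
  [2, 5, 0, 6, 7, 1, 3, 4],
  [5, 2, 1, 4, 3, 0, 7, 6],
  [4, 6, 3, 5, 1, 7, 0, 2],
  [5, 2, 1, 6, 7, 0, 3, 4],
  [2, 5, 0, 4, 3, 1, 7, 6],
  [6, 4, 7, 2, 0, 3, 1, 5],
  [2, 5, 0, 4, 3, 1, 7, 6],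
  [5, 2, 1, 6, 7, 0, 3, 4],
  [2, 5, 1, 4, 7, 0, 3, 6],
  [4, 6, 7, 5, 0, 3, 1, 2],
  [6, 4, 3, 2, 1, 7, 0, 5],
  [5, 2, 0, 6, 3, 1, 7, 4],
  [6, 4, 3, 2, 1, 7, 0, 5],
  [4, 6, 7, 5, 0, 3, 1, 2],
  [0, 1, 2, 3, 4, 5, 6, 7],
  [3, 7, 4, 1, 5, 6, 2, 0],
  [7, 3, 6, 0, 2, 4, 5, 1],
  [7, 3, 4, 0, 5, 6, 2, 1],
  [0, 1, 5, 3, 6, 2, 4, 7],
  [1, 0, 2, 7, 4, 5, 6, 3],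
  [3, 7, 6, 1, 2, 4, 5, 0],
  [1, 0, 2, 7, 4, 5, 6, 3],
  [0, 1, 5, 3, 6, 2, 4, 7]]
def mT : List (List ℕ) := [
  [1, 0, 0, 0, 0, 1, 0, 0, 0, 0, 1, 0, 0, 0, 0, 1],
  [0, 0, 2, 0, 0, 1, 0, 0, 1, 0, 0, 0, 0, 0, 0, 1],
  [0, 0, 1, 0, 0, 1, 0, 0, 2, 0, 0, 0, 0, 0, 0, 1],
  [1, 0, 1, 0, 0, 1, 0, 0, 1, 0, 2, 0, 0, 0, 0, 1],
  [2, 0, 2, 0, 0, 1, 0, 0, 2, 0, 1, 0, 0, 0, 0, 1],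
  [0, 1, 0, 0, 1, 0, 0, 0, 0, 0, 0, 1, 0, 0, 1, 0],
  [2, 0, 0, 0, 0, 1, 0, 0, 0, 0, 2, 0, 0, 0, 0, 1],
  [2, 0, 1, 0, 0, 1, 0, 0, 1, 0, 1, 0, 0, 0, 0, 1],
  [1, 0, 2, 0, 0, 1, 0, 0, 2, 0, 2, 0, 0, 0, 0, 1],
  [0, 0, 0, 2, 1, 0, 0, 0, 0, 1, 0, 0, 0, 0, 1, 0],
  [0, 0, 0, 1, 1, 0, 0, 0, 0, 2, 0, 0, 0, 0, 1, 0],
  [0, 1, 0, 1, 1, 0, 0, 0, 0, 1, 0, 2, 0, 0, 1, 0],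
  [0, 2, 0, 2, 1, 0, 0, 0, 0, 2, 0, 1, 0, 0, 1, 0],
  [0, 1, 0, 0, 0, 0, 2, 0, 0, 0, 0, 1, 1, 0, 0, 0],
  [0, 1, 0, 0, 0, 0, 1, 0, 0, 0, 0, 1, 2, 0, 0, 0],
  [0, 1, 0, 0, 1, 0, 1, 0, 0, 0, 0, 1, 1, 0, 2, 0],
  [0, 1, 0, 0, 2, 0, 2, 0, 0, 0, 0, 1, 2, 0, 1, 0],
  [0, 2, 0, 0, 1, 0, 0, 0, 0, 0, 0, 2, 0, 0, 1, 0],
  [0, 2, 0, 1, 1, 0, 0, 0, 0, 1, 0, 1, 0, 0, 1, 0],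
  [0, 1, 0, 2, 1, 0, 0, 0, 0, 2, 0, 2, 0, 0, 1, 0],
  [0, 0, 0, 2, 0, 0, 2, 0, 0, 1, 0, 0, 1, 0, 0, 0],
  [0, 0, 0, 2, 0, 0, 1, 0, 0, 1, 0, 0, 2, 0, 0, 0],
  [0, 0, 0, 2, 1, 0, 1, 0, 0, 1, 0, 0, 1, 0, 2, 0],
  [0, 0, 0, 2, 2, 0, 2, 0, 0, 1, 0, 0, 2, 0, 1, 0],
  [0, 0, 0, 1, 0, 0, 2, 0, 0, 2, 0, 0, 1, 0, 0, 0],
  [0, 0, 0, 1, 0, 0, 1, 0, 0, 2, 0, 0, 2, 0, 0, 0],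
  [0, 0, 0, 1, 1, 0, 1, 0, 0, 2, 0, 0, 1, 0, 2, 0],
  [0, 0, 0, 1, 2, 0, 2, 0, 0, 2, 0, 0, 2, 0, 1, 0],
  [0, 1, 0, 1, 0, 0, 2, 0, 0, 1, 0, 2, 1, 0, 0, 0],
  [0, 1, 0, 1, 0, 0, 1, 0, 0, 1, 0, 2, 2, 0, 0, 0],
  [0, 1, 0, 1, 1, 0, 1, 0, 0, 1, 0, 2, 1, 0, 2, 0],
  [0, 1, 0, 1, 2, 0, 2, 0, 0, 1, 0, 2, 2, 0, 1, 0],
  [0, 2, 0, 2, 0, 0, 2, 0, 0, 2, 0, 1, 1, 0, 0, 0],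
  [0, 2, 0, 2, 0, 0, 1, 0, 0, 2, 0, 1, 2, 0, 0, 0],
  [0, 2, 0, 2, 1, 0, 1, 0, 0, 2, 0, 1, 1, 0, 2, 0],
  [0, 2, 0, 2, 2, 0, 2, 0, 0, 2, 0, 1, 2, 0, 1, 0],
  [0, 1, 0, 0, 2, 0, 0, 0, 0, 0, 0, 1, 0, 0, 2, 0],
  [0, 1, 0, 0, 2, 0, 1, 0, 0, 0, 0, 1, 1, 0, 1, 0],
  [0, 1, 0, 0, 1, 0, 2, 0, 0, 0, 0, 1, 2, 0, 2, 0],
  [1, 0, 0, 0, 0, 0, 0, 2, 0, 0, 1, 0, 0, 1, 0, 0],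
  [1, 0, 0, 0, 0, 0, 0, 1, 0, 0, 1, 0, 0, 2, 0, 0],
  [1, 0, 0, 0, 0, 1, 0, 1, 0, 0, 1, 0, 0, 1, 0, 2],
  [1, 0, 0, 0, 0, 2, 0, 2, 0, 0, 1, 0, 0, 2, 0, 1],
  [0, 2, 0, 0, 0, 0, 2, 0, 0, 0, 0, 2, 1, 0, 0, 0],
  [0, 2, 0, 0, 0, 0, 1, 0, 0, 0, 0, 2, 2, 0, 0, 0],
  [0, 2, 0, 0, 1, 0, 1, 0, 0, 0, 0, 2, 1, 0, 2, 0],
  [0, 2, 0, 0, 2, 0, 2, 0, 0, 0, 0, 2, 2, 0, 1, 0],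
  [0, 2, 0, 1, 0, 0, 2, 0, 0, 1, 0, 1, 1, 0, 0, 0],
  [0, 2, 0, 1, 0, 0, 1, 0, 0, 1, 0, 1, 2, 0, 0, 0],
  [0, 2, 0, 1, 1, 0, 1, 0, 0, 1, 0, 1, 1, 0, 2, 0],
  [0, 2, 0, 1, 2, 0, 2, 0, 0, 1, 0, 1, 2, 0, 1, 0],
  [0, 1, 0, 2, 0, 0, 2, 0, 0, 2, 0, 2, 1, 0, 0, 0],
  [0, 1, 0, 2, 0, 0, 1, 0, 0, 2, 0, 2, 2, 0, 0, 0],
  [0, 1, 0, 2, 1, 0, 1, 0, 0, 2, 0, 2, 1, 0, 2, 0],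
  [0, 1, 0, 2, 2, 0, 2, 0, 0, 2, 0, 2, 2, 0, 1, 0],
  [0, 0, 0, 2, 2, 0, 0, 0, 0, 1, 0, 0, 0, 0, 2, 0],
  [0, 0, 0, 2, 2, 0, 1, 0, 0, 1, 0, 0, 1, 0, 1, 0],
  [0, 0, 0, 2, 1, 0, 2, 0, 0, 1, 0, 0, 2, 0, 2, 0],
  [0, 0, 2, 0, 0, 0, 0, 2, 1, 0, 0, 0, 0, 1, 0, 0],
  [0, 0, 2, 0, 0, 0, 0, 1, 1, 0, 0, 0, 0, 2, 0, 0],
  [0, 0, 2, 0, 0, 1, 0, 1, 1, 0, 0, 0, 0, 1, 0, 2],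
  [0, 0, 2, 0, 0, 2, 0, 2, 1, 0, 0, 0, 0, 2, 0, 1],
  [0, 0, 0, 1, 2, 0, 0, 0, 0, 2, 0, 0, 0, 0, 2, 0],
  [0, 0, 0, 1, 2, 0, 1, 0, 0, 2, 0, 0, 1, 0, 1, 0],
  [0, 0, 0, 1, 1, 0, 2, 0, 0, 2, 0, 0, 2, 0, 2, 0],
  [0, 0, 1, 0, 0, 0, 0, 2, 2, 0, 0, 0, 0, 1, 0, 0],
  [0, 0, 1, 0, 0, 0, 0, 1, 2, 0, 0, 0, 0, 2, 0, 0],
  [0, 0, 1, 0, 0, 1, 0, 1, 2, 0, 0, 0, 0, 1, 0, 2],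
  [0, 0, 1, 0, 0, 2, 0, 2, 2, 0, 0, 0, 0, 2, 0, 1],
  [0, 1, 0, 1, 2, 0, 0, 0, 0, 1, 0, 2, 0, 0, 2, 0],
  [0, 1, 0, 1, 2, 0, 1, 0, 0, 1, 0, 2, 1, 0, 1, 0],
  [0, 1, 0, 1, 1, 0, 2, 0, 0, 1, 0, 2, 2, 0, 2, 0],
  [1, 0, 1, 0, 0, 0, 0, 2, 1, 0, 2, 0, 0, 1, 0, 0],
  [1, 0, 1, 0, 0, 0, 0, 1, 1, 0, 2, 0, 0, 2, 0, 0],
  [1, 0, 1, 0, 0, 1, 0, 1, 1, 0, 2, 0, 0, 1, 0, 2],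
  [1, 0, 1, 0, 0, 2, 0, 2, 1, 0, 2, 0, 0, 2, 0, 1],
  [0, 2, 0, 2, 2, 0, 0, 0, 0, 2, 0, 1, 0, 0, 2, 0],
  [0, 2, 0, 2, 2, 0, 1, 0, 0, 2, 0, 1, 1, 0, 1, 0],
  [0, 2, 0, 2, 1, 0, 2, 0, 0, 2, 0, 1, 2, 0, 2, 0],
  [2, 0, 2, 0, 0, 0, 0, 2, 2, 0, 1, 0, 0, 1, 0, 0],
  [2, 0, 2, 0, 0, 0, 0, 1, 2, 0, 1, 0, 0, 2, 0, 0],
  [2, 0, 2, 0, 0, 1, 0, 1, 2, 0, 1, 0, 0, 1, 0, 2],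
  [2, 0, 2, 0, 0, 2, 0, 2, 2, 0, 1, 0, 0, 2, 0, 1],
  [1, 0, 0, 0, 0, 2, 0, 0, 0, 0, 1, 0, 0, 0, 0, 2],
  [1, 0, 0, 0, 0, 2, 0, 1, 0, 0, 1, 0, 0, 1, 0, 1],
  [1, 0, 0, 0, 0, 1, 0, 2, 0, 0, 1, 0, 0, 2, 0, 2],
  [0, 2, 0, 0, 2, 0, 0, 0, 0, 0, 0, 2, 0, 0, 2, 0],
  [0, 2, 0, 0, 2, 0, 1, 0, 0, 0, 0, 2, 1, 0, 1, 0],
  [0, 2, 0, 0, 1, 0, 2, 0, 0, 0, 0, 2, 2, 0, 2, 0],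
  [2, 0, 0, 0, 0, 0, 0, 2, 0, 0, 2, 0, 0, 1, 0, 0],
  [2, 0, 0, 0, 0, 0, 0, 1, 0, 0, 2, 0, 0, 2, 0, 0],
  [2, 0, 0, 0, 0, 1, 0, 1, 0, 0, 2, 0, 0, 1, 0, 2],
  [2, 0, 0, 0, 0, 2, 0, 2, 0, 0, 2, 0, 0, 2, 0, 1],
  [0, 2, 0, 1, 2, 0, 0, 0, 0, 1, 0, 1, 0, 0, 2, 0],
  [0, 2, 0, 1, 2, 0, 1, 0, 0, 1, 0, 1, 1, 0, 1, 0],
  [0, 2, 0, 1, 1, 0, 2, 0, 0, 1, 0, 1, 2, 0, 2, 0],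
  [2, 0, 1, 0, 0, 0, 0, 2, 1, 0, 1, 0, 0, 1, 0, 0],
  [2, 0, 1, 0, 0, 0, 0, 1, 1, 0, 1, 0, 0, 2, 0, 0],
  [2, 0, 1, 0, 0, 1, 0, 1, 1, 0, 1, 0, 0, 1, 0, 2],
  [2, 0, 1, 0, 0, 2, 0, 2, 1, 0, 1, 0, 0, 2, 0, 1],
  [0, 1, 0, 2, 2, 0, 0, 0, 0, 2, 0, 2, 0, 0, 2, 0],
  [0, 1, 0, 2, 2, 0, 1, 0, 0, 2, 0, 2, 1, 0, 1, 0],
  [0, 1, 0, 2, 1, 0, 2, 0, 0, 2, 0, 2, 2, 0, 2, 0],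
  [1, 0, 2, 0, 0, 0, 0, 2, 2, 0, 2, 0, 0, 1, 0, 0],
  [1, 0, 2, 0, 0, 0, 0, 1, 2, 0, 2, 0, 0, 2, 0, 0],
  [1, 0, 2, 0, 0, 1, 0, 1, 2, 0, 2, 0, 0, 1, 0, 2],
  [1, 0, 2, 0, 0, 2, 0, 2, 2, 0, 2, 0, 0, 2, 0, 1],
  [0, 0, 2, 0, 0, 2, 0, 0, 1, 0, 0, 0, 0, 0, 0, 2],
  [0, 0, 2, 0, 0, 2, 0, 1, 1, 0, 0, 0, 0, 1, 0, 1],
  [0, 0, 2, 0, 0, 1, 0, 2, 1, 0, 0, 0, 0, 2, 0, 2],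
  [0, 0, 1, 0, 0, 2, 0, 0, 2, 0, 0, 0, 0, 0, 0, 2],
  [0, 0, 1, 0, 0, 2, 0, 1, 2, 0, 0, 0, 0, 1, 0, 1],
  [0, 0, 1, 0, 0, 1, 0, 2, 2, 0, 0, 0, 0, 2, 0, 2],
  [1, 0, 1, 0, 0, 2, 0, 0, 1, 0, 2, 0, 0, 0, 0, 2],
  [1, 0, 1, 0, 0, 2, 0, 1, 1, 0, 2, 0, 0, 1, 0, 1],
  [1, 0, 1, 0, 0, 1, 0, 2, 1, 0, 2, 0, 0, 2, 0, 2],
  [2, 0, 2, 0, 0, 2, 0, 0, 2, 0, 1, 0, 0, 0, 0, 2],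
  [2, 0, 2, 0, 0, 2, 0, 1, 2, 0, 1, 0, 0, 1, 0, 1],
  [2, 0, 2, 0, 0, 1, 0, 2, 2, 0, 1, 0, 0, 2, 0, 2],
  [2, 0, 0, 0, 0, 2, 0, 0, 0, 0, 2, 0, 0, 0, 0, 2],
  [2, 0, 0, 0, 0, 2, 0, 1, 0, 0, 2, 0, 0, 1, 0, 1],
  [2, 0, 0, 0, 0, 1, 0, 2, 0, 0, 2, 0, 0, 2, 0, 2],
  [2, 0, 1, 0, 0, 2, 0, 0, 1, 0, 1, 0, 0, 0, 0, 2],
  [2, 0, 1, 0, 0, 2, 0, 1, 1, 0, 1, 0, 0, 1, 0, 1],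
  [2, 0, 1, 0, 0, 1, 0, 2, 1, 0, 1, 0, 0, 2, 0, 2],
  [1, 0, 2, 0, 0, 2, 0, 0, 2, 0, 2, 0, 0, 0, 0, 2],
  [1, 0, 2, 0, 0, 2, 0, 1, 2, 0, 2, 0, 0, 1, 0, 1],
  [1, 0, 2, 0, 0, 1, 0, 2, 2, 0, 2, 0, 0, 2, 0, 2]]
def nT : List (List ℕ) := [
  [1, 2, 3, 4, 5],
  [6, 0, 7, 8, 9],
  [0, 6, 8, 7, 10],
  [8, 7, 6, 0, 11],
  [7, 8, 0, 6, 12],
  [13, 14, 15, 16, 0],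
  [2, 1, 4, 3, 17],
  [3, 4, 2, 1, 18],
  [4, 3, 1, 2, 19],
  [20, 21, 22, 23, 1],
  [24, 25, 26, 27, 2],
  [28, 29, 30, 31, 3],
  [32, 33, 34, 35, 4],
  [36, 5, 37, 38, 39],
  [5, 36, 38, 37, 40],
  [38, 37, 36, 5, 41],
  [37, 38, 5, 36, 42],
  [43, 44, 45, 46, 6],
  [47, 48, 49, 50, 7],
  [51, 52, 53, 54, 8],
  [55, 9, 56, 57, 58],
  [9, 55, 57, 56, 59],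
  [57, 56, 55, 9, 60],
  [56, 57, 9, 55, 61],
  [62, 10, 63, 64, 65],
  [10, 62, 64, 63, 66],
  [64, 63, 62, 10, 67],
  [63, 64, 10, 62, 68],
  [69, 11, 70, 71, 72],
  [11, 69, 71, 70, 73],
  [71, 70, 69, 11, 74],
  [70, 71, 11, 69, 75],
  [76, 12, 77, 78, 79],
  [12, 76, 78, 77, 80],
  [78, 77, 76, 12, 81],
  [77, 78, 12, 76, 82],
  [14, 13, 16, 15, 83],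
  [15, 16, 14, 13, 84],
  [16, 15, 13, 14, 85],
  [58, 65, 72, 79, 13],
  [59, 66, 73, 80, 14],
  [60, 67, 74, 81, 15],
  [61, 68, 75, 82, 16],
  [86, 17, 87, 88, 89],
  [17, 86, 88, 87, 90],
  [88, 87, 86, 17, 91],
  [87, 88, 17, 86, 92],
  [93, 18, 94, 95, 96],
  [18, 93, 95, 94, 97],
  [95, 94, 93, 18, 98],
  [94, 95, 18, 93, 99],
  [100, 19, 101, 102, 103],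
  [19, 100, 102, 101, 104],
  [102, 101, 100, 19, 105],
  [101, 102, 19, 100, 106],
  [21, 20, 23, 22, 107],
  [22, 23, 21, 20, 108],
  [23, 22, 20, 21, 109],
  [89, 39, 96, 103, 20],
  [90, 40, 97, 104, 21],
  [91, 41, 98, 105, 22],
  [92, 42, 99, 106, 23],
  [25, 24, 27, 26, 110],
  [26, 27, 25, 24, 111],
  [27, 26, 24, 25, 112],
  [39, 89, 103, 96, 24],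
  [40, 90, 104, 97, 25],
  [41, 91, 105, 98, 26],
  [42, 92, 106, 99, 27],
  [29, 28, 31, 30, 113],
  [30, 31, 29, 28, 114],
  [31, 30, 28, 29, 115],
  [103, 96, 89, 39, 28],
  [104, 97, 90, 40, 29],
  [105, 98, 91, 41, 30],
  [106, 99, 92, 42, 31],
  [33, 32, 35, 34, 116],
  [34, 35, 33, 32, 117],
  [35, 34, 32, 33, 118],
  [96, 103, 39, 89, 32],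
  [97, 104, 40, 90, 33],
  [98, 105, 41, 91, 34],
  [99, 106, 42, 92, 35],
  [107, 110, 113, 116, 36],
  [108, 111, 114, 117, 37],
  [109, 112, 115, 118, 38],
  [44, 43, 46, 45, 119],
  [45, 46, 44, 43, 120],
  [46, 45, 43, 44, 121],
  [65, 58, 79, 72, 43],
  [66, 59, 80, 73, 44],
  [67, 60, 81, 74, 45],
  [68, 61, 82, 75, 46],
  [48, 47, 50, 49, 122],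
  [49, 50, 48, 47, 123],
  [50, 49, 47, 48, 124],
  [72, 79, 65, 58, 47],
  [73, 80, 66, 59, 48],
  [74, 81, 67, 60, 49],
  [75, 82, 68, 61, 50],
  [52, 51, 54, 53, 125],
  [53, 54, 52, 51, 126],
  [54, 53, 51, 52, 127],
  [79, 72, 58, 65, 51],
  [80, 73, 59, 66, 52],
  [81, 74, 60, 67, 53],
  [82, 75, 61, 68, 54],
  [119, 83, 122, 125, 55],
  [120, 84, 123, 126, 56],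
  [121, 85, 124, 127, 57],
  [83, 119, 125, 122, 62],
  [84, 120, 126, 123, 63],
  [85, 121, 127, 124, 64],
  [125, 122, 119, 83, 69],
  [126, 123, 120, 84, 70],
  [127, 124, 121, 85, 71],
  [122, 125, 83, 119, 76],
  [123, 126, 84, 120, 77],
  [124, 127, 85, 121, 78],
  [110, 107, 116, 113, 86],
  [111, 108, 117, 114, 87],
  [112, 109, 118, 115, 88],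
  [113, 116, 110, 107, 93],
  [114, 117, 111, 108, 94],
  [115, 118, 112, 109, 95],
  [116, 113, 107, 110, 100],
  [117, 114, 108, 111, 101],
  [118, 115, 109, 112, 102]]
def parT : List ℕ := [0, 0, 0, 0, 0, 0, 1, 1, 1, 1, 2, 3, 4, 5, 5, 5, 5, 6, 7, 8, 9, 9, 9, 9, 10, 10, 10, 10, 11, 11, 11, 11, 12, 12, 12, 12, 13, 13, 13, 13, 14, 15, 16, 17, 17, 17, 17, 18, 18, 18, 18, 19, 19, 19, 19, 20, 20, 20, 20, 21, 22, 23, 24, 24, 24, 24, 25, 26, 27, 28, 28, 28, 28, 29, 30, 31, 32, 32, 32, 32, 33, 34, 35, 36, 37, 38, 43, 43, 43, 43, 44, 45, 46, 47, 47, 47, 47, 48, 49, 50, 51, 51, 51, 51, 52, 53, 54, 55, 56, 57, 62, 63, 64, 69, 70, 71, 76, 77, 78, 86, 87, 88, 93, 94, 95, 100, 101, 102]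
def labT : List ℕ := [0, 0, 1, 2, 3, 4, 0, 2, 3, 4, 4, 4, 4, 0, 1, 2, 3, 4, 4, 4, 0, 1, 2, 3, 0, 1, 2, 3, 0, 1, 2, 3, 0, 1, 2, 3, 0, 2, 3, 4, 4, 4, 4, 0, 1, 2, 3, 0, 1, 2, 3, 0, 1, 2, 3, 0, 2, 3, 4, 4, 4, 4, 0, 2, 3, 4, 4, 4, 4, 0, 2, 3, 4, 4, 4, 4, 0, 2, 3, 4, 4, 4, 4, 4, 4, 4, 0, 2, 3, 4, 4, 4, 4, 0, 2, 3, 4, 4, 4, 4, 0, 2, 3, 4, 4, 4, 4, 4, 4, 4, 4, 4, 4, 4, 4, 4, 4, 4, 4, 4, 4, 4, 4, 4, 4, 4, 4, 4]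
def ivT : List ℕ := [1, 0, 3, 2, 4]

def ix : Fin 2 ⊕ Fin 2 → ℕ
  | .inl a => a.val
  | .inr a => 2 + a.val
def mf (i : ℕ) : Matrix (Fin 2 ⊕ Fin 2) (Fin 2 ⊕ Fin 2) (ZMod 3) :=
  fun a b => (((mT.getD i []).getD (4 * ix a + ix b) 0 : ℕ) : ZMod 3)

def pf (i : ℕ) : Fin 8 → Fin 8 := fun x => Fin.ofNat 8 ((pT.getD i []).getD x.val 0)
def nx (i : Fin 128) (t : Fin 5) : Fin 128 := Fin.ofNat 128 ((nT.getD i.val []).getD t.val 0)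
def gi (t : Fin 5) : ℕ := (nx 0 t).val
def par (i : Fin 128) : Fin 128 := Fin.ofNat 128 (parT.getD i.val 0)
def lab (i : Fin 128) : Fin 5 := Fin.ofNat 5 (labT.getD i.val 0)
def iv (t : Fin 5) : Fin 5 := Fin.ofNat 5 (ivT.getD t.val 0)

theorem chk_p : ∀ (i : Fin 128) (t : Fin 5) (x : Fin 8), pf i.val (pf (gi t) x) = pf (nx i t).val x := by
  decide +kernel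
theorem chk_p0 : ∀ x, pf 0 x = x := by decide +kernel
theorem chk_par : ∀ i : Fin 128, i ≠ 0 → par i < i ∧ nx (par i) (lab i) = i := by decide +kernel
theorem chk_pinv : ∀ (t : Fin 5) (x : Fin 8), pf (gi t) (pf (gi (iv t)) x) = x := by decide +kernel
theorem chk_iv : ∀ t : Fin 5, iv (iv t) = t := by decide +kernel
theorem chk_m : ∀ (i : Fin 128) (t : Fin 5), mf i.val * mf (gi t) = mf (nx i t).val := by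
  decide +kernel
theorem chk_m0 : mf 0 = 1 := by decide +kernel
theorem chk_minv : ∀ t : Fin 5, mf (gi t) * mf (gi (iv t)) = 1 := by decide +kernel

theorem chk_sp : ∀ t : Fin 5, mf (gi t) * Matrix.J (Fin 2) (ZMod 3) * (mf (gi t)).transpose = Matrix.J (Fin 2) (ZMod 3) := by
  decide +kernel
theorem chk_ker : ∀ i : Fin 128, (∀ x, pf i.val x = x) ↔ (mf i.val = 1 ∨ mf i.val = -1) := by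
  decide +kernel
theorem chk_card : (Finset.univ.image (fun i : Fin 128 => pf i.val)).card = 64 := by decide +kernel

end Cfsg.Agent.Lib.Helper14.Syl8.D1
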