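import Mathlib
import Cfsg.Prelude.Def_Classical

set_option autoImplicit false
set_option maxRecDepth 100000

namespace Cfsg.Agent.Lib.Helper14.Syl8.D2

def pT : List (List ℕ) := [
  [0, 1, 2, 3, 4, 5, 6, 7],
  [5, 4, 7, 6, 0, 1, 2, 3],
  [4, 5, 6, 7, 1, 0, 3, 2],
  [3, 2, 7, 6, 0, 1, 5, 4],
  [4, 5, 1, 0, 7, 6, 3, 2],
  [1, 0, 4, 5, 3, 2, 6, 7],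
  [1, 0, 5, 4, 2, 3, 6, 7],
  [1, 0, 3, 2, 5, 4, 7, 6],
  [6, 7, 3, 2, 5, 4, 1, 0],
  [0, 1, 4, 5, 3, 2, 6, 7],
  [4, 5, 0, 1, 6, 7, 2, 3],
  [4, 5, 1, 0, 7, 6, 2, 3],
  [7, 6, 2, 3, 4, 5, 0, 1],
  [1, 0, 5, 4, 2, 3, 7, 6],
  [5, 4, 1, 0, 7, 6, 3, 2],
  [5, 4, 0, 1, 6, 7, 3, 2],
  [1, 0, 4, 5, 3, 2, 7, 6],
  [0, 1, 5, 4, 2, 3, 6, 7],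
  [6, 7, 4, 5, 3, 2, 1, 0],
  [2, 3, 0, 1, 6, 7, 5, 4],
  [2, 3, 1, 0, 7, 6, 5, 4],
  [6, 7, 2, 3, 4, 5, 1, 0],
  [7, 6, 3, 2, 5, 4, 0, 1],
  [7, 6, 5, 4, 2, 3, 0, 1],
  [5, 4, 7, 6, 0, 1, 3, 2],
  [5, 4, 6, 7, 1, 0, 3, 2],
  [2, 3, 7, 6, 1, 0, 4, 5],
  [3, 2, 6, 7, 0, 1, 5, 4],
  [5, 4, 7, 6, 1, 0, 2, 3],
  [3, 2, 0, 1, 7, 6, 5, 4],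
  [0, 1, 3, 2, 5, 4, 6, 7],
  [3, 2, 7, 6, 1, 0, 5, 4],
  [2, 3, 6, 7, 0, 1, 4, 5],
  [4, 5, 7, 6, 1, 0, 3, 2],
  [2, 3, 0, 1, 7, 6, 4, 5],
  [2, 3, 6, 7, 1, 0, 4, 5],
  [5, 4, 0, 1, 6, 7, 2, 3],
  [0, 1, 5, 4, 2, 3, 7, 6],
  [0, 1, 4, 5, 3, 2, 7, 6],
  [4, 5, 0, 1, 6, 7, 3, 2],
  [5, 4, 1, 0, 7, 6, 2, 3],
  [2, 3, 0, 1, 6, 7, 4, 5],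
  [7, 6, 5, 4, 2, 3, 1, 0],
  [7, 6, 4, 5, 3, 2, 1, 0],
  [2, 3, 7, 6, 0, 1, 4, 5],
  [3, 2, 6, 7, 1, 0, 5, 4],
  [3, 2, 1, 0, 7, 6, 5, 4],
  [1, 0, 3, 2, 5, 4, 6, 7],
  [1, 0, 2, 3, 4, 5, 6, 7],
  [7, 6, 3, 2, 4, 5, 0, 1],
  [6, 7, 2, 3, 5, 4, 1, 0],
  [1, 0, 3, 2, 4, 5, 7, 6],
  [6, 7, 5, 4, 3, 2, 1, 0],
  [5, 4, 6, 7, 1, 0, 2, 3],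
  [6, 7, 3, 2, 4, 5, 1, 0],
  [7, 6, 2, 3, 5, 4, 0, 1],
  [0, 1, 3, 2, 4, 5, 6, 7],
  [7, 6, 5, 4, 3, 2, 0, 1],
  [6, 7, 4, 5, 3, 2, 0, 1],
  [6, 7, 5, 4, 2, 3, 0, 1],
  [0, 1, 2, 3, 4, 5, 7, 6],
  [0, 1, 3, 2, 5, 4, 7, 6],
  [0, 1, 2, 3, 5, 4, 6, 7],
  [7, 6, 4, 5, 2, 3, 0, 1],
  [4, 5, 7, 6, 0, 1, 3, 2],
  [1, 0, 2, 3, 5, 4, 7, 6],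
  [6, 7, 4, 5, 2, 3, 1, 0],
  [3, 2, 0, 1, 6, 7, 5, 4],
  [2, 3, 1, 0, 7, 6, 4, 5],
  [7, 6, 3, 2, 5, 4, 1, 0],
  [7, 6, 2, 3, 4, 5, 1, 0],
  [1, 0, 4, 5, 2, 3, 7, 6],
  [0, 1, 4, 5, 2, 3, 6, 7],
  [6, 7, 2, 3, 4, 5, 0, 1],
  [6, 7, 3, 2, 5, 4, 0, 1],
  [3, 2, 1, 0, 6, 7, 4, 5],
  [3, 2, 0, 1, 7, 6, 4, 5],
  [2, 3, 0, 1, 7, 6, 5, 4],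
  [2, 3, 1, 0, 6, 7, 5, 4],
  [4, 5, 1, 0, 6, 7, 2, 3],
  [4, 5, 0, 1, 7, 6, 2, 3],
  [2, 3, 7, 6, 1, 0, 5, 4],
  [2, 3, 6, 7, 0, 1, 5, 4],
  [5, 4, 1, 0, 6, 7, 3, 2],
  [5, 4, 0, 1, 7, 6, 3, 2],
  [3, 2, 7, 6, 1, 0, 4, 5],
  [3, 2, 6, 7, 0, 1, 4, 5],
  [3, 2, 1, 0, 7, 6, 4, 5],
  [3, 2, 0, 1, 6, 7, 4, 5],
  [4, 5, 6, 7, 1, 0, 2, 3],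
  [4, 5, 7, 6, 0, 1, 2, 3],
  [4, 5, 6, 7, 0, 1, 3, 2],
  [2, 3, 1, 0, 6, 7, 4, 5],
  [1, 0, 2, 3, 4, 5, 7, 6],
  [5, 4, 6, 7, 0, 1, 2, 3],
  [3, 2, 1, 0, 6, 7, 5, 4],
  [6, 7, 5, 4, 2, 3, 1, 0],
  [7, 6, 4, 5, 3, 2, 0, 1],
  [3, 2, 6, 7, 1, 0, 4, 5],
  [3, 2, 7, 6, 0, 1, 4, 5],
  [4, 5, 0, 1, 7, 6, 3, 2],
  [5, 4, 0, 1, 7, 6, 2, 3],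
  [2, 3, 7, 6, 0, 1, 5, 4],
  [2, 3, 6, 7, 1, 0, 5, 4],
  [6, 7, 4, 5, 2, 3, 0, 1],
  [6, 7, 5, 4, 3, 2, 0, 1],
  [7, 6, 5, 4, 3, 2, 1, 0],
  [7, 6, 4, 5, 2, 3, 1, 0],
  [0, 1, 4, 5, 2, 3, 7, 6],
  [0, 1, 5, 4, 3, 2, 7, 6],
  [7, 6, 3, 2, 4, 5, 1, 0],
  [7, 6, 2, 3, 5, 4, 1, 0],
  [1, 0, 4, 5, 2, 3, 6, 7],
  [1, 0, 5, 4, 3, 2, 6, 7],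
  [6, 7, 3, 2, 4, 5, 0, 1],
  [6, 7, 2, 3, 5, 4, 0, 1],
  [5, 4, 1, 0, 6, 7, 2, 3],
  [4, 5, 1, 0, 6, 7, 3, 2],
  [0, 1, 2, 3, 5, 4, 7, 6],
  [0, 1, 3, 2, 4, 5, 7, 6],
  [1, 0, 2, 3, 5, 4, 6, 7],
  [1, 0, 3, 2, 4, 5, 6, 7],
  [0, 1, 5, 4, 3, 2, 6, 7],
  [1, 0, 5, 4, 3, 2, 7, 6],
  [5, 4, 7, 6, 1, 0, 3, 2],
  [5, 4, 6, 7, 0, 1, 3, 2],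
  [4, 5, 7, 6, 1, 0, 2, 3],
  [4, 5, 6, 7, 0, 1, 2, 3]]
def mT : List (List ℕ) := [
  [1, 0, 0, 0, 0, 0, 0, 1, 0, 0, 0, 0, 0, 0, 1, 0, 0, 0, 0, 0, 0, 1, 0, 0, 0, 0, 0, 0, 1, 0, 0, 0, 0, 0, 0, 1],
  [1, 0, 1, 1, 0, 1, 0, 1, 0, 1, 1, 0, 0, 0, 1, 0, 0, 0, 0, 0, 0, 1, 0, 0, 0, 0, 1, 0, 1, 0, 0, 0, 0, 1, 0, 1],
  [1, 0, 1, 0, 0, 1, 0, 1, 1, 1, 1, 0, 0, 0, 1, 0, 0, 0, 0, 0, 0, 1, 0, 0, 0, 0, 1, 0, 1, 0, 0, 0, 0, 1, 0, 1],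
  [1, 1, 0, 1, 1, 0, 0, 1, 0, 1, 1, 0, 0, 0, 1, 0, 0, 0, 0, 0, 1, 1, 0, 0, 0, 0, 0, 1, 0, 1, 0, 0, 0, 0, 1, 0],
  [1, 1, 0, 0, 0, 0, 0, 1, 1, 1, 0, 1, 0, 0, 1, 0, 0, 0, 0, 0, 1, 1, 0, 0, 0, 0, 0, 0, 0, 1, 0, 0, 1, 1, 1, 0],
  [1, 0, 1, 1, 1, 0, 0, 1, 1, 0, 0, 0, 0, 0, 1, 0, 0, 0, 0, 0, 0, 1, 0, 0, 0, 0, 1, 0, 0, 1, 0, 0, 0, 0, 1, 0],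
  [1, 0, 1, 1, 0, 1, 0, 1, 1, 0, 0, 0, 0, 0, 1, 0, 0, 0, 0, 0, 0, 1, 0, 0, 0, 0, 0, 0, 0, 1, 0, 0, 1, 0, 1, 0],
  [1, 0, 0, 1, 0, 0, 0, 1, 1, 0, 0, 0, 0, 0, 1, 0, 0, 0, 0, 0, 0, 1, 0, 0, 0, 0, 0, 0, 1, 0, 0, 0, 0, 0, 0, 1],
  [1, 1, 0, 0, 0, 0, 0, 1, 1, 1, 1, 1, 0, 0, 1, 0, 0, 0, 0, 0, 1, 1, 0, 0, 0, 0, 1, 1, 0, 1, 0, 0, 1, 1, 1, 0],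
  [1, 1, 1, 0, 1, 0, 0, 1, 0, 0, 0, 0, 0, 0, 1, 0, 0, 0, 0, 0, 1, 1, 0, 0, 0, 0, 1, 0, 0, 1, 0, 0, 0, 0, 1, 0],
  [1, 0, 0, 0, 0, 0, 0, 1, 0, 1, 0, 1, 0, 0, 1, 0, 0, 0, 0, 0, 0, 1, 0, 0, 0, 0, 0, 0, 0, 1, 0, 0, 0, 1, 1, 0],
  [1, 0, 1, 0, 1, 1, 0, 1, 1, 1, 0, 1, 0, 0, 1, 0, 0, 0, 0, 0, 0, 1, 0, 0, 0, 0, 1, 0, 0, 1, 0, 0, 1, 1, 1, 0],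
  [1, 1, 1, 1, 0, 0, 0, 1, 0, 1, 1, 1, 0, 0, 1, 0, 0, 0, 0, 0, 1, 1, 0, 0, 0, 0, 1, 1, 0, 1, 0, 0, 1, 1, 1, 0],
  [1, 1, 0, 1, 1, 0, 0, 1, 1, 0, 0, 0, 0, 0, 1, 0, 0, 0, 0, 0, 1, 1, 0, 0, 0, 0, 1, 0, 0, 1, 0, 0, 0, 0, 1, 0],
  [1, 0, 0, 1, 0, 0, 0, 1, 1, 1, 0, 1, 0, 0, 1, 0, 0, 0, 0, 0, 0, 1, 0, 0, 0, 0, 0, 0, 0, 1, 0, 0, 0, 1, 1, 0],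
  [1, 0, 1, 1, 1, 1, 0, 1, 0, 1, 0, 1, 0, 0, 1, 0, 0, 0, 0, 0, 0, 1, 0, 0, 0, 0, 1, 0, 0, 1, 0, 0, 1, 1, 1, 0],
  [1, 1, 0, 1, 0, 1, 0, 1, 1, 0, 0, 0, 0, 0, 1, 0, 0, 0, 0, 0, 1, 1, 0, 0, 0, 0, 0, 0, 0, 1, 0, 0, 1, 0, 1, 0],
  [1, 1, 1, 0, 0, 1, 0, 1, 0, 0, 0, 0, 0, 0, 1, 0, 0, 0, 0, 0, 1, 1, 0, 0, 0, 0, 0, 0, 0, 1, 0, 0, 1, 0, 1, 0],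
  [1, 0, 1, 0, 0, 1, 0, 1, 1, 1, 1, 1, 0, 0, 1, 0, 0, 0, 0, 0, 0, 1, 0, 0, 0, 0, 1, 1, 1, 0, 0, 0, 0, 1, 0, 1],
  [1, 1, 1, 0, 1, 1, 0, 1, 0, 1, 0, 1, 0, 0, 1, 0, 0, 0, 0, 0, 1, 1, 0, 0, 0, 0, 0, 1, 1, 0, 0, 0, 1, 0, 0, 1],
  [1, 1, 0, 0, 0, 0, 0, 1, 1, 1, 0, 1, 0, 0, 1, 0, 0, 0, 0, 0, 1, 1, 0, 0, 0, 0, 1, 1, 1, 0, 0, 0, 0, 0, 0, 1],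
  [1, 1, 1, 0, 1, 1, 0, 1, 1, 1, 1, 1, 0, 0, 1, 0, 0, 0, 0, 0, 1, 1, 0, 0, 0, 0, 0, 1, 0, 1, 0, 0, 0, 1, 1, 0],
  [1, 1, 0, 1, 1, 1, 0, 1, 0, 1, 1, 1, 0, 0, 1, 0, 0, 0, 0, 0, 1, 1, 0, 0, 0, 0, 0, 1, 0, 1, 0, 0, 0, 1, 1, 0],
  [1, 0, 1, 1, 0, 1, 0, 1, 0, 1, 1, 1, 0, 0, 1, 0, 0, 0, 0, 0, 0, 1, 0, 0, 0, 0, 1, 1, 1, 0, 0, 0, 0, 1, 0, 1],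
  [1, 1, 0, 1, 1, 0, 0, 1, 0, 1, 1, 0, 0, 0, 1, 0, 0, 0, 0, 0, 1, 1, 0, 0, 0, 0, 0, 0, 1, 0, 0, 0, 0, 1, 0, 1],
  [1, 1, 0, 1, 0, 1, 0, 1, 1, 1, 1, 0, 0, 0, 1, 0, 0, 0, 0, 0, 1, 1, 0, 0, 0, 0, 1, 0, 1, 0, 0, 0, 1, 1, 0, 1],
  [1, 0, 1, 0, 1, 1, 0, 1, 1, 1, 1, 0, 0, 0, 1, 0, 0, 0, 0, 0, 0, 1, 0, 0, 0, 0, 1, 1, 0, 1, 0, 0, 1, 0, 1, 0],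
  [1, 0, 1, 1, 1, 1, 0, 1, 0, 1, 1, 0, 0, 0, 1, 0, 0, 0, 0, 0, 0, 1, 0, 0, 0, 0, 1, 1, 0, 1, 0, 0, 1, 0, 1, 0],
  [1, 1, 0, 1, 1, 1, 0, 1, 1, 1, 1, 0, 0, 0, 1, 0, 0, 0, 0, 0, 1, 1, 0, 0, 0, 0, 1, 0, 1, 0, 0, 0, 0, 1, 0, 1],
  [1, 1, 0, 1, 0, 1, 0, 1, 0, 1, 0, 1, 0, 0, 1, 0, 0, 0, 0, 0, 1, 1, 0, 0, 0, 0, 0, 1, 1, 0, 0, 0, 0, 0, 0, 1],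
  [1, 0, 1, 0, 1, 1, 0, 1, 0, 0, 0, 0, 0, 0, 1, 0, 0, 0, 0, 0, 0, 1, 0, 0, 0, 0, 1, 0, 1, 0, 0, 0, 1, 0, 0, 1],
  [1, 0, 0, 1, 0, 0, 0, 1, 1, 1, 1, 0, 0, 0, 1, 0, 0, 0, 0, 0, 0, 1, 0, 0, 0, 0, 0, 1, 0, 1, 0, 0, 0, 0, 1, 0],
  [1, 0, 0, 0, 0, 0, 0, 1, 0, 1, 1, 0, 0, 0, 1, 0, 0, 0, 0, 0, 0, 1, 0, 0, 0, 0, 0, 1, 0, 1, 0, 0, 0, 0, 1, 0],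
  [1, 1, 0, 0, 0, 0, 0, 1, 1, 1, 1, 0, 0, 0, 1, 0, 0, 0, 0, 0, 1, 1, 0, 0, 0, 0, 0, 0, 1, 0, 0, 0, 1, 1, 0, 1],
  [1, 1, 1, 0, 1, 0, 0, 1, 0, 1, 0, 1, 0, 0, 1, 0, 0, 0, 0, 0, 1, 1, 0, 0, 0, 0, 1, 1, 1, 0, 0, 0, 1, 0, 0, 1],
  [1, 1, 1, 0, 1, 0, 0, 1, 1, 1, 1, 0, 0, 0, 1, 0, 0, 0, 0, 0, 1, 1, 0, 0, 0, 0, 0, 1, 0, 1, 0, 0, 0, 0, 1, 0],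
  [1, 1, 1, 1, 0, 0, 0, 1, 0, 1, 0, 1, 0, 0, 1, 0, 0, 0, 0, 0, 1, 1, 0, 0, 0, 0, 0, 0, 0, 1, 0, 0, 1, 1, 1, 0],
  [1, 0, 1, 0, 1, 0, 0, 1, 0, 0, 0, 0, 0, 0, 1, 0, 0, 0, 0, 0, 0, 1, 0, 0, 0, 0, 1, 0, 0, 1, 0, 0, 0, 0, 1, 0],
  [1, 0, 1, 0, 0, 1, 0, 1, 0, 0, 0, 0, 0, 0, 1, 0, 0, 0, 0, 0, 0, 1, 0, 0, 0, 0, 0, 0, 0, 1, 0, 0, 1, 0, 1, 0],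
  [1, 1, 1, 0, 1, 1, 0, 1, 0, 1, 0, 1, 0, 0, 1, 0, 0, 0, 0, 0, 1, 1, 0, 0, 0, 0, 1, 0, 0, 1, 0, 0, 0, 1, 1, 0],
  [1, 1, 0, 1, 1, 1, 0, 1, 1, 1, 0, 1, 0, 0, 1, 0, 0, 0, 0, 0, 1, 1, 0, 0, 0, 0, 1, 0, 0, 1, 0, 0, 0, 1, 1, 0],
  [1, 0, 0, 0, 0, 0, 0, 1, 0, 1, 0, 1, 0, 0, 1, 0, 0, 0, 0, 0, 0, 1, 0, 0, 0, 0, 0, 1, 1, 0, 0, 0, 0, 0, 0, 1],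
  [1, 1, 0, 1, 1, 0, 0, 1, 1, 1, 1, 1, 0, 0, 1, 0, 0, 0, 0, 0, 1, 1, 0, 0, 0, 0, 1, 1, 1, 0, 0, 0, 0, 1, 0, 1],
  [1, 1, 0, 1, 0, 1, 0, 1, 1, 1, 1, 1, 0, 0, 1, 0, 0, 0, 0, 0, 1, 1, 0, 0, 0, 0, 0, 1, 1, 0, 0, 0, 1, 1, 0, 1],
  [1, 1, 1, 0, 0, 1, 0, 1, 0, 1, 1, 0, 0, 0, 1, 0, 0, 0, 0, 0, 1, 1, 0, 0, 0, 0, 1, 1, 0, 1, 0, 0, 1, 0, 1, 0],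
  [1, 1, 0, 1, 0, 1, 0, 1, 1, 1, 1, 0, 0, 0, 1, 0, 0, 0, 0, 0, 1, 1, 0, 0, 0, 0, 1, 1, 0, 1, 0, 0, 1, 0, 1, 0],
  [1, 0, 0, 1, 0, 0, 0, 1, 1, 1, 0, 1, 0, 0, 1, 0, 0, 0, 0, 0, 0, 1, 0, 0, 0, 0, 0, 1, 1, 0, 0, 0, 0, 0, 0, 1],
  [1, 1, 0, 1, 1, 1, 0, 1, 1, 0, 0, 0, 0, 0, 1, 0, 0, 0, 0, 0, 1, 1, 0, 0, 0, 0, 1, 0, 1, 0, 0, 0, 1, 0, 0, 1],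
  [1, 1, 1, 1, 0, 0, 0, 1, 1, 0, 0, 0, 0, 0, 1, 0, 0, 0, 0, 0, 1, 1, 0, 0, 0, 0, 0, 0, 1, 0, 0, 0, 0, 0, 0, 1],
  [1, 0, 1, 1, 0, 1, 0, 1, 0, 1, 1, 1, 0, 0, 1, 0, 0, 0, 0, 0, 0, 1, 0, 0, 0, 0, 0, 1, 0, 1, 0, 0, 1, 1, 1, 0],
  [1, 0, 1, 0, 0, 1, 0, 1, 1, 1, 1, 1, 0, 0, 1, 0, 0, 0, 0, 0, 0, 1, 0, 0, 0, 0, 0, 1, 0, 1, 0, 0, 1, 1, 1, 0],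
  [1, 1, 0, 1, 1, 0, 0, 1, 1, 0, 0, 0, 0, 0, 1, 0, 0, 0, 0, 0, 1, 1, 0, 0, 0, 0, 0, 0, 1, 0, 0, 0, 1, 0, 0, 1],
  [1, 1, 0, 0, 0, 0, 0, 1, 1, 1, 1, 1, 0, 0, 1, 0, 0, 0, 0, 0, 1, 1, 0, 0, 0, 0, 1, 1, 1, 0, 0, 0, 1, 1, 0, 1],
  [1, 0, 1, 1, 1, 0, 0, 1, 1, 1, 1, 0, 0, 0, 1, 0, 0, 0, 0, 0, 0, 1, 0, 0, 0, 0, 0, 0, 1, 0, 0, 0, 1, 1, 0, 1],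
  [1, 0, 1, 0, 1, 0, 0, 1, 1, 1, 1, 1, 0, 0, 1, 0, 0, 0, 0, 0, 0, 1, 0, 0, 0, 0, 1, 1, 0, 1, 0, 0, 0, 1, 1, 0],
  [1, 0, 1, 1, 1, 0, 0, 1, 0, 1, 1, 1, 0, 0, 1, 0, 0, 0, 0, 0, 0, 1, 0, 0, 0, 0, 1, 1, 0, 1, 0, 0, 0, 1, 1, 0],
  [1, 1, 1, 0, 0, 1, 0, 1, 0, 0, 0, 0, 0, 0, 1, 0, 0, 0, 0, 0, 1, 1, 0, 0, 0, 0, 1, 0, 1, 0, 0, 0, 0, 0, 0, 1],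
  [1, 1, 0, 1, 1, 1, 0, 1, 0, 1, 1, 1, 0, 0, 1, 0, 0, 0, 0, 0, 1, 1, 0, 0, 0, 0, 0, 1, 1, 0, 0, 0, 0, 1, 0, 1],
  [1, 1, 1, 0, 1, 0, 0, 1, 0, 1, 1, 1, 0, 0, 1, 0, 0, 0, 0, 0, 1, 1, 0, 0, 0, 0, 1, 1, 1, 0, 0, 0, 0, 1, 0, 1],
  [1, 1, 1, 0, 0, 1, 0, 1, 0, 1, 1, 1, 0, 0, 1, 0, 0, 0, 0, 0, 1, 1, 0, 0, 0, 0, 0, 1, 1, 0, 0, 0, 1, 1, 0, 1],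
  [1, 1, 1, 0, 1, 1, 0, 1, 0, 0, 0, 0, 0, 0, 1, 0, 0, 0, 0, 0, 1, 1, 0, 0, 0, 0, 1, 0, 1, 0, 0, 0, 1, 0, 0, 1],
  [1, 1, 0, 0, 0, 0, 0, 1, 0, 0, 0, 0, 0, 0, 1, 0, 0, 0, 0, 0, 1, 1, 0, 0, 0, 0, 0, 0, 1, 0, 0, 0, 0, 0, 0, 1],
  [1, 1, 1, 0, 1, 0, 0, 1, 0, 0, 0, 0, 0, 0, 1, 0, 0, 0, 0, 0, 1, 1, 0, 0, 0, 0, 0, 0, 1, 0, 0, 0, 1, 0, 0, 1],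
  [1, 1, 1, 1, 0, 0, 0, 1, 0, 1, 1, 1, 0, 0, 1, 0, 0, 0, 0, 0, 1, 1, 0, 0, 0, 0, 1, 1, 1, 0, 0, 0, 1, 1, 0, 1],
  [1, 0, 1, 0, 1, 0, 0, 1, 0, 1, 1, 0, 0, 0, 1, 0, 0, 0, 0, 0, 0, 1, 0, 0, 0, 0, 0, 0, 1, 0, 0, 0, 1, 1, 0, 1],
  [1, 1, 0, 1, 0, 1, 0, 1, 1, 0, 0, 0, 0, 0, 1, 0, 0, 0, 0, 0, 1, 1, 0, 0, 0, 0, 1, 0, 1, 0, 0, 0, 0, 0, 0, 1],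
  [1, 1, 1, 0, 1, 1, 0, 1, 1, 1, 1, 1, 0, 0, 1, 0, 0, 0, 0, 0, 1, 1, 0, 0, 0, 0, 0, 1, 1, 0, 0, 0, 0, 1, 0, 1],
  [1, 0, 1, 1, 1, 1, 0, 1, 0, 1, 0, 1, 0, 0, 1, 0, 0, 0, 0, 0, 0, 1, 0, 0, 0, 0, 1, 1, 1, 0, 0, 0, 1, 0, 0, 1],
  [1, 0, 1, 0, 1, 1, 0, 1, 1, 1, 0, 1, 0, 0, 1, 0, 0, 0, 0, 0, 0, 1, 0, 0, 0, 0, 1, 1, 1, 0, 0, 0, 1, 0, 0, 1],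
  [1, 0, 0, 1, 0, 0, 0, 1, 1, 1, 1, 1, 0, 0, 1, 0, 0, 0, 0, 0, 0, 1, 0, 0, 0, 0, 0, 1, 0, 1, 0, 0, 0, 1, 1, 0],
  [1, 0, 1, 1, 1, 1, 0, 1, 1, 1, 1, 1, 0, 0, 1, 0, 0, 0, 0, 0, 0, 1, 0, 0, 0, 0, 1, 1, 0, 1, 0, 0, 1, 1, 1, 0],
  [1, 0, 1, 1, 1, 1, 0, 1, 1, 0, 0, 0, 0, 0, 1, 0, 0, 0, 0, 0, 0, 1, 0, 0, 0, 0, 1, 0, 0, 1, 0, 0, 1, 0, 1, 0],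
  [1, 0, 0, 0, 0, 0, 0, 1, 0, 0, 0, 0, 0, 0, 1, 0, 0, 0, 0, 0, 0, 1, 0, 0, 0, 0, 0, 0, 0, 1, 0, 0, 0, 0, 1, 0],
  [1, 0, 0, 0, 0, 0, 0, 1, 0, 1, 1, 1, 0, 0, 1, 0, 0, 0, 0, 0, 0, 1, 0, 0, 0, 0, 0, 1, 0, 1, 0, 0, 0, 1, 1, 0],
  [1, 0, 1, 0, 1, 1, 0, 1, 0, 1, 1, 1, 0, 0, 1, 0, 0, 0, 0, 0, 0, 1, 0, 0, 0, 0, 1, 1, 0, 1, 0, 0, 1, 1, 1, 0],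
  [1, 0, 1, 1, 0, 1, 0, 1, 1, 1, 0, 1, 0, 0, 1, 0, 0, 0, 0, 0, 0, 1, 0, 0, 0, 0, 1, 1, 1, 0, 0, 0, 0, 0, 0, 1],
  [1, 0, 1, 1, 1, 0, 0, 1, 0, 1, 0, 1, 0, 0, 1, 0, 0, 0, 0, 0, 0, 1, 0, 0, 0, 0, 0, 1, 1, 0, 0, 0, 1, 0, 0, 1],
  [1, 0, 1, 0, 0, 1, 0, 1, 0, 1, 0, 1, 0, 0, 1, 0, 0, 0, 0, 0, 0, 1, 0, 0, 0, 0, 1, 1, 1, 0, 0, 0, 0, 0, 0, 1],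
  [1, 0, 1, 0, 1, 0, 0, 1, 1, 1, 0, 1, 0, 0, 1, 0, 0, 0, 0, 0, 0, 1, 0, 0, 0, 0, 0, 1, 1, 0, 0, 0, 1, 0, 0, 1],
  [1, 1, 1, 0, 0, 1, 0, 1, 1, 1, 0, 1, 0, 0, 1, 0, 0, 0, 0, 0, 1, 1, 0, 0, 0, 0, 0, 0, 0, 1, 0, 0, 0, 1, 1, 0],
  [1, 1, 1, 0, 1, 0, 0, 1, 0, 1, 0, 1, 0, 0, 1, 0, 0, 0, 0, 0, 1, 1, 0, 0, 0, 0, 1, 0, 0, 1, 0, 0, 1, 1, 1, 0],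
  [1, 1, 0, 0, 0, 0, 0, 1, 1, 1, 1, 0, 0, 0, 1, 0, 0, 0, 0, 0, 1, 1, 0, 0, 0, 0, 1, 1, 0, 1, 0, 0, 0, 0, 1, 0],
  [1, 1, 1, 0, 1, 1, 0, 1, 0, 1, 1, 0, 0, 0, 1, 0, 0, 0, 0, 0, 1, 1, 0, 0, 0, 0, 0, 1, 0, 1, 0, 0, 1, 0, 1, 0],
  [1, 1, 0, 1, 1, 0, 0, 1, 1, 1, 0, 1, 0, 0, 1, 0, 0, 0, 0, 0, 1, 1, 0, 0, 0, 0, 1, 0, 0, 1, 0, 0, 1, 1, 1, 0],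
  [1, 1, 0, 1, 0, 1, 0, 1, 0, 1, 0, 1, 0, 0, 1, 0, 0, 0, 0, 0, 1, 1, 0, 0, 0, 0, 0, 0, 0, 1, 0, 0, 0, 1, 1, 0],
  [1, 1, 0, 1, 1, 1, 0, 1, 1, 1, 1, 0, 0, 0, 1, 0, 0, 0, 0, 0, 1, 1, 0, 0, 0, 0, 0, 1, 0, 1, 0, 0, 1, 0, 1, 0],
  [1, 1, 1, 1, 0, 0, 0, 1, 0, 1, 1, 0, 0, 0, 1, 0, 0, 0, 0, 0, 1, 1, 0, 0, 0, 0, 1, 1, 0, 1, 0, 0, 0, 0, 1, 0],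
  [1, 1, 0, 1, 1, 1, 0, 1, 1, 1, 0, 1, 0, 0, 1, 0, 0, 0, 0, 0, 1, 1, 0, 0, 0, 0, 0, 1, 1, 0, 0, 0, 1, 0, 0, 1],
  [1, 1, 1, 1, 0, 0, 0, 1, 0, 1, 0, 1, 0, 0, 1, 0, 0, 0, 0, 0, 1, 1, 0, 0, 0, 0, 1, 1, 1, 0, 0, 0, 0, 0, 0, 1],
  [1, 1, 1, 0, 1, 0, 0, 1, 1, 1, 1, 0, 0, 0, 1, 0, 0, 0, 0, 0, 1, 1, 0, 0, 0, 0, 0, 0, 1, 0, 0, 0, 0, 1, 0, 1],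
  [1, 1, 1, 0, 0, 1, 0, 1, 0, 1, 1, 0, 0, 0, 1, 0, 0, 0, 0, 0, 1, 1, 0, 0, 0, 0, 1, 0, 1, 0, 0, 0, 1, 1, 0, 1],
  [1, 1, 1, 0, 1, 1, 0, 1, 0, 1, 1, 0, 0, 0, 1, 0, 0, 0, 0, 0, 1, 1, 0, 0, 0, 0, 1, 0, 1, 0, 0, 0, 0, 1, 0, 1],
  [1, 1, 1, 0, 0, 1, 0, 1, 1, 1, 0, 1, 0, 0, 1, 0, 0, 0, 0, 0, 1, 1, 0, 0, 0, 0, 0, 1, 1, 0, 0, 0, 0, 0, 0, 1],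
  [1, 0, 1, 1, 1, 1, 0, 1, 1, 0, 0, 0, 0, 0, 1, 0, 0, 0, 0, 0, 0, 1, 0, 0, 0, 0, 1, 0, 1, 0, 0, 0, 1, 0, 0, 1],
  [1, 1, 1, 1, 0, 0, 0, 1, 0, 1, 1, 0, 0, 0, 1, 0, 0, 0, 0, 0, 1, 1, 0, 0, 0, 0, 0, 0, 1, 0, 0, 0, 1, 1, 0, 1],
  [1, 1, 0, 1, 1, 0, 0, 1, 1, 1, 0, 1, 0, 0, 1, 0, 0, 0, 0, 0, 1, 1, 0, 0, 0, 0, 1, 1, 1, 0, 0, 0, 1, 0, 0, 1],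
  [1, 0, 1, 0, 1, 0, 0, 1, 1, 1, 1, 1, 0, 0, 1, 0, 0, 0, 0, 0, 0, 1, 0, 0, 0, 0, 0, 1, 1, 0, 0, 0, 1, 1, 0, 1],
  [1, 0, 1, 1, 1, 0, 0, 1, 0, 1, 1, 1, 0, 0, 1, 0, 0, 0, 0, 0, 0, 1, 0, 0, 0, 0, 0, 1, 1, 0, 0, 0, 1, 1, 0, 1],
  [1, 0, 1, 1, 1, 0, 0, 1, 1, 1, 1, 0, 0, 0, 1, 0, 0, 0, 0, 0, 0, 1, 0, 0, 0, 0, 1, 1, 0, 1, 0, 0, 0, 0, 1, 0],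
  [1, 0, 1, 1, 0, 1, 0, 1, 0, 1, 1, 0, 0, 0, 1, 0, 0, 0, 0, 0, 0, 1, 0, 0, 0, 0, 0, 1, 0, 1, 0, 0, 1, 0, 1, 0],
  [1, 0, 1, 0, 0, 1, 0, 1, 0, 1, 0, 1, 0, 0, 1, 0, 0, 0, 0, 0, 0, 1, 0, 0, 0, 0, 0, 0, 0, 1, 0, 0, 1, 1, 1, 0],
  [1, 0, 1, 1, 1, 0, 0, 1, 0, 1, 0, 1, 0, 0, 1, 0, 0, 0, 0, 0, 0, 1, 0, 0, 0, 0, 1, 0, 0, 1, 0, 0, 0, 1, 1, 0],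
  [1, 0, 1, 0, 1, 0, 0, 1, 0, 1, 1, 0, 0, 0, 1, 0, 0, 0, 0, 0, 0, 1, 0, 0, 0, 0, 1, 1, 0, 1, 0, 0, 0, 0, 1, 0],
  [1, 0, 1, 0, 0, 1, 0, 1, 1, 1, 1, 0, 0, 0, 1, 0, 0, 0, 0, 0, 0, 1, 0, 0, 0, 0, 0, 1, 0, 1, 0, 0, 1, 0, 1, 0],
  [1, 0, 0, 0, 0, 0, 0, 1, 0, 1, 1, 1, 0, 0, 1, 0, 0, 0, 0, 0, 0, 1, 0, 0, 0, 0, 0, 1, 1, 0, 0, 0, 0, 1, 0, 1],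
  [1, 0, 1, 0, 1, 1, 0, 1, 0, 1, 1, 1, 0, 0, 1, 0, 0, 0, 0, 0, 0, 1, 0, 0, 0, 0, 1, 1, 1, 0, 0, 0, 1, 1, 0, 1],
  [1, 0, 0, 1, 0, 0, 0, 1, 1, 1, 1, 1, 0, 0, 1, 0, 0, 0, 0, 0, 0, 1, 0, 0, 0, 0, 0, 1, 1, 0, 0, 0, 0, 1, 0, 1],
  [1, 0, 1, 1, 1, 1, 0, 1, 1, 1, 1, 1, 0, 0, 1, 0, 0, 0, 0, 0, 0, 1, 0, 0, 0, 0, 1, 1, 1, 0, 0, 0, 1, 1, 0, 1],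
  [1, 1, 1, 0, 1, 1, 0, 1, 0, 0, 0, 0, 0, 0, 1, 0, 0, 0, 0, 0, 1, 1, 0, 0, 0, 0, 1, 0, 0, 1, 0, 0, 1, 0, 1, 0],
  [1, 1, 0, 0, 0, 0, 0, 1, 0, 0, 0, 0, 0, 0, 1, 0, 0, 0, 0, 0, 1, 1, 0, 0, 0, 0, 0, 0, 0, 1, 0, 0, 0, 0, 1, 0],
  [1, 1, 0, 1, 1, 0, 0, 1, 1, 1, 1, 1, 0, 0, 1, 0, 0, 0, 0, 0, 1, 1, 0, 0, 0, 0, 0, 1, 0, 1, 0, 0, 1, 1, 1, 0],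
  [1, 1, 0, 1, 0, 1, 0, 1, 1, 1, 1, 1, 0, 0, 1, 0, 0, 0, 0, 0, 1, 1, 0, 0, 0, 0, 1, 1, 0, 1, 0, 0, 0, 1, 1, 0],
  [1, 1, 1, 1, 0, 0, 0, 1, 1, 0, 0, 0, 0, 0, 1, 0, 0, 0, 0, 0, 1, 1, 0, 0, 0, 0, 0, 0, 0, 1, 0, 0, 0, 0, 1, 0],
  [1, 1, 0, 1, 1, 1, 0, 1, 1, 0, 0, 0, 0, 0, 1, 0, 0, 0, 0, 0, 1, 1, 0, 0, 0, 0, 1, 0, 0, 1, 0, 0, 1, 0, 1, 0],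
  [1, 1, 1, 0, 0, 1, 0, 1, 0, 1, 1, 1, 0, 0, 1, 0, 0, 0, 0, 0, 1, 1, 0, 0, 0, 0, 1, 1, 0, 1, 0, 0, 0, 1, 1, 0],
  [1, 1, 1, 0, 1, 0, 0, 1, 0, 1, 1, 1, 0, 0, 1, 0, 0, 0, 0, 0, 1, 1, 0, 0, 0, 0, 0, 1, 0, 1, 0, 0, 1, 1, 1, 0],
  [1, 0, 1, 1, 0, 1, 0, 1, 1, 1, 0, 1, 0, 0, 1, 0, 0, 0, 0, 0, 0, 1, 0, 0, 0, 0, 0, 0, 0, 1, 0, 0, 1, 1, 1, 0],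
  [1, 0, 1, 0, 1, 0, 0, 1, 1, 1, 0, 1, 0, 0, 1, 0, 0, 0, 0, 0, 0, 1, 0, 0, 0, 0, 1, 0, 0, 1, 0, 0, 0, 1, 1, 0],
  [1, 0, 1, 0, 0, 1, 0, 1, 0, 0, 0, 0, 0, 0, 1, 0, 0, 0, 0, 0, 0, 1, 0, 0, 0, 0, 1, 0, 1, 0, 0, 0, 0, 0, 0, 1],
  [1, 0, 1, 0, 1, 0, 0, 1, 0, 0, 0, 0, 0, 0, 1, 0, 0, 0, 0, 0, 0, 1, 0, 0, 0, 0, 0, 0, 1, 0, 0, 0, 1, 0, 0, 1],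
  [1, 0, 1, 1, 1, 0, 0, 1, 1, 0, 0, 0, 0, 0, 1, 0, 0, 0, 0, 0, 0, 1, 0, 0, 0, 0, 0, 0, 1, 0, 0, 0, 1, 0, 0, 1],
  [1, 0, 1, 1, 0, 1, 0, 1, 1, 0, 0, 0, 0, 0, 1, 0, 0, 0, 0, 0, 0, 1, 0, 0, 0, 0, 1, 0, 1, 0, 0, 0, 0, 0, 0, 1],
  [1, 0, 1, 0, 1, 1, 0, 1, 0, 0, 0, 0, 0, 0, 1, 0, 0, 0, 0, 0, 0, 1, 0, 0, 0, 0, 1, 0, 0, 1, 0, 0, 1, 0, 1, 0],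
  [1, 0, 0, 1, 0, 0, 0, 1, 1, 0, 0, 0, 0, 0, 1, 0, 0, 0, 0, 0, 0, 1, 0, 0, 0, 0, 0, 0, 0, 1, 0, 0, 0, 0, 1, 0],
  [1, 0, 0, 1, 0, 0, 0, 1, 1, 1, 1, 0, 0, 0, 1, 0, 0, 0, 0, 0, 0, 1, 0, 0, 0, 0, 0, 0, 1, 0, 0, 0, 0, 1, 0, 1],
  [1, 0, 1, 1, 1, 1, 0, 1, 0, 1, 1, 0, 0, 0, 1, 0, 0, 0, 0, 0, 0, 1, 0, 0, 0, 0, 1, 0, 1, 0, 0, 0, 1, 1, 0, 1],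
  [1, 0, 1, 0, 1, 1, 0, 1, 1, 1, 1, 0, 0, 0, 1, 0, 0, 0, 0, 0, 0, 1, 0, 0, 0, 0, 1, 0, 1, 0, 0, 0, 1, 1, 0, 1],
  [1, 0, 0, 0, 0, 0, 0, 1, 0, 1, 1, 0, 0, 0, 1, 0, 0, 0, 0, 0, 0, 1, 0, 0, 0, 0, 0, 0, 1, 0, 0, 0, 0, 1, 0, 1]]
def nT : List (List ℕ) := [
  [1, 2, 3, 4, 5, 6],
  [7, 0, 8, 9, 10, 11],
  [0, 7, 12, 13, 14, 15],
  [16, 17, 18, 0, 19, 20],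
  [21, 22, 0, 23, 24, 25],
  [26, 27, 28, 29, 30, 0],
  [31, 32, 33, 34, 0, 30],
  [2, 1, 35, 36, 37, 38],
  [39, 40, 41, 1, 42, 43],
  [44, 45, 1, 46, 47, 48],
  [49, 50, 51, 52, 53, 1],
  [54, 55, 56, 57, 1, 53],
  [40, 39, 46, 2, 58, 59],
  [45, 44, 2, 41, 60, 61],
  [50, 49, 62, 63, 64, 2],
  [55, 54, 65, 66, 2, 64],
  [35, 3, 53, 67, 61, 60],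
  [3, 35, 64, 68, 48, 47],
  [41, 46, 36, 3, 69, 70],
  [63, 52, 71, 54, 45, 3],
  [66, 57, 72, 49, 3, 45],
  [36, 4, 67, 64, 43, 42],
  [4, 36, 68, 53, 59, 58],
  [46, 41, 4, 35, 73, 74],
  [65, 56, 50, 72, 39, 4],
  [62, 51, 55, 71, 4, 39],
  [37, 5, 59, 47, 75, 76],
  [5, 37, 43, 60, 77, 78],
  [61, 48, 74, 5, 79, 80],
  [58, 42, 5, 70, 81, 82],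
  [64, 53, 44, 40, 6, 5],
  [38, 6, 58, 48, 78, 77],
  [6, 38, 42, 61, 76, 75],
  [60, 47, 73, 6, 83, 84],
  [59, 43, 6, 69, 85, 86],
  [17, 16, 23, 7, 87, 88],
  [22, 21, 7, 18, 89, 90],
  [27, 26, 91, 92, 93, 7],
  [32, 31, 94, 95, 7, 93],
  [12, 8, 93, 96, 25, 24],
  [8, 12, 30, 97, 90, 89],
  [23, 18, 13, 8, 98, 99],
  [29, 92, 100, 32, 21, 8],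
  [34, 95, 101, 27, 8, 21],
  [13, 9, 96, 30, 88, 87],
  [9, 13, 97, 93, 20, 19],
  [18, 23, 9, 12, 102, 103],
  [33, 94, 26, 101, 17, 9],
  [28, 91, 31, 100, 9, 17],
  [14, 10, 20, 89, 104, 105],
  [10, 14, 88, 24, 106, 107],
  [25, 90, 103, 10, 108, 109],
  [19, 87, 10, 99, 110, 111],
  [30, 93, 22, 16, 11, 10],
  [15, 11, 19, 90, 107, 106],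
  [11, 15, 87, 25, 105, 104],
  [24, 89, 102, 11, 112, 113],
  [20, 88, 11, 98, 114, 115],
  [92, 29, 116, 31, 22, 12],
  [95, 34, 117, 26, 12, 22],
  [94, 33, 27, 117, 16, 13],
  [91, 28, 32, 116, 13, 16],
  [90, 25, 99, 14, 113, 112],
  [87, 19, 14, 103, 115, 114],
  [93, 30, 21, 17, 15, 14],
  [89, 24, 98, 15, 109, 108],
  [88, 20, 15, 102, 111, 110],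
  [97, 96, 16, 21, 103, 102],
  [96, 97, 17, 22, 99, 98],
  [100, 116, 34, 94, 96, 18],
  [101, 117, 29, 91, 18, 96],
  [98, 102, 25, 19, 118, 119],
  [99, 103, 24, 20, 120, 121],
  [116, 100, 95, 33, 97, 23],
  [117, 101, 92, 28, 23, 97],
  [106, 104, 109, 115, 32, 26],
  [105, 107, 113, 111, 26, 32],
  [104, 106, 112, 110, 31, 27],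
  [107, 105, 108, 114, 27, 31],
  [110, 115, 119, 105, 94, 28],
  [114, 111, 121, 106, 28, 94],
  [108, 113, 104, 121, 95, 29],
  [112, 109, 107, 119, 29, 95],
  [111, 114, 118, 104, 91, 33],
  [115, 110, 120, 107, 33, 91],
  [109, 112, 105, 120, 92, 34],
  [113, 108, 106, 118, 34, 92],
  [52, 63, 122, 55, 44, 35],
  [57, 66, 123, 50, 35, 44],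
  [56, 65, 49, 123, 40, 36],
  [51, 62, 54, 122, 36, 40],
  [48, 61, 70, 37, 84, 83],
  [42, 58, 37, 74, 86, 85],
  [53, 64, 45, 39, 38, 37],
  [47, 60, 69, 38, 80, 79],
  [43, 59, 38, 73, 82, 81],
  [67, 68, 39, 44, 70, 69],
  [68, 67, 40, 45, 74, 73],
  [122, 71, 57, 65, 68, 41],
  [123, 72, 52, 62, 41, 68],
  [73, 69, 48, 42, 124, 125],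
  [74, 70, 47, 43, 126, 127],
  [71, 122, 66, 56, 67, 46],
  [72, 123, 63, 51, 46, 67],
  [75, 77, 83, 81, 55, 49],
  [78, 76, 79, 85, 49, 55],
  [77, 75, 80, 86, 54, 50],
  [76, 78, 84, 82, 50, 54],
  [86, 81, 125, 78, 65, 51],
  [82, 85, 127, 75, 51, 65],
  [84, 79, 77, 127, 66, 52],
  [80, 83, 76, 125, 52, 66],
  [85, 82, 124, 77, 62, 56],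
  [81, 86, 126, 76, 56, 62],
  [83, 80, 78, 126, 63, 57],
  [79, 84, 75, 124, 57, 63],
  [69, 73, 61, 58, 127, 126],
  [70, 74, 60, 59, 125, 124],
  [127, 124, 86, 83, 123, 71],
  [125, 126, 82, 79, 71, 123],
  [126, 125, 85, 84, 122, 72],
  [124, 127, 81, 80, 72, 122],
  [102, 98, 90, 87, 121, 120],
  [103, 99, 89, 88, 119, 118],
  [118, 121, 115, 112, 117, 100],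
  [120, 119, 111, 108, 100, 117],
  [119, 120, 114, 113, 116, 101],
  [121, 118, 110, 109, 101, 116]]
def parT : List ℕ := [0, 0, 0, 0, 0, 0, 0, 1, 1, 1, 1, 1, 2, 2, 2, 2, 3, 3, 3, 3, 3, 4, 4, 4, 4, 4, 5, 5, 5, 5, 5, 6, 6, 6, 6, 7, 7, 7, 7, 8, 8, 8, 8, 8, 9, 9, 9, 9, 9, 10, 10, 10, 10, 10, 11, 11, 11, 11, 12, 12, 13, 13, 14, 14, 14, 15, 15, 16, 17, 18, 18, 19, 20, 23, 23, 26, 26, 27, 27, 28, 28, 29, 29, 33, 33, 34, 34, 35, 35, 36, 36, 37, 37, 37, 38, 38, 39, 40, 41, 41, 42, 43, 46, 46, 49, 49, 50, 50, 51, 51, 52, 52, 56, 56, 57, 57, 58, 59, 71, 71, 72, 72, 87, 88, 100, 100, 101, 101]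
def labT : List ℕ := [0, 0, 1, 2, 3, 4, 5, 0, 2, 3, 4, 5, 2, 3, 4, 5, 0, 1, 2, 4, 5, 0, 1, 3, 4, 5, 0, 1, 2, 3, 4, 0, 1, 2, 3, 2, 3, 4, 5, 0, 1, 2, 4, 5, 0, 1, 3, 4, 5, 0, 1, 2, 3, 4, 0, 1, 2, 3, 4, 5, 4, 5, 2, 3, 4, 2, 3, 3, 3, 4, 5, 2, 2, 4, 5, 4, 5, 4, 5, 4, 5, 4, 5, 4, 5, 4, 5, 4, 5, 4, 5, 2, 3, 4, 2, 3, 3, 3, 4, 5, 2, 2, 4, 5, 4, 5, 4, 5, 4, 5, 4, 5, 4, 5, 4, 5, 2, 2, 4, 5, 4, 5, 2, 2, 4, 5, 4, 5]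
def ivT : List ℕ := [1, 0, 3, 2, 5, 4]

def ix : (Fin 2 ⊕ Fin 2) ⊕ Fin 2 → ℕ
  | .inl (.inl a) => a.val
  | .inl (.inr a) => 2 + a.val
  | .inr a => 4 + a.val
def mf (i : ℕ) : Matrix ((Fin 2 ⊕ Fin 2) ⊕ Fin 2) ((Fin 2 ⊕ Fin 2) ⊕ Fin 2) (ZMod 2) :=
  fun a b => (((mT.getD i []).getD (6 * ix a + ix b) 0 : ℕ) : ZMod 2)

def pf (i : ℕ) : Fin 8 → Fin 8 := fun x => Fin.ofNat 8 ((pT.getD i []).getD x.val 0)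
def nx (i : Fin 128) (t : Fin 6) : Fin 128 := Fin.ofNat 128 ((nT.getD i.val []).getD t.val 0)
def gi (t : Fin 6) : ℕ := (nx 0 t).val
def par (i : Fin 128) : Fin 128 := Fin.ofNat 128 (parT.getD i.val 0)
def lab (i : Fin 128) : Fin 6 := Fin.ofNat 6 (labT.getD i.val 0)
def iv (t : Fin 6) : Fin 6 := Fin.ofNat 6 (ivT.getD t.val 0)

theorem chk_p : ∀ (i : Fin 128) (t : Fin 6) (x : Fin 8), pf i.val (pf (gi t) x) = pf (nx i t).val x := by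
  decide +kernel
theorem chk_p0 : ∀ x, pf 0 x = x := by decide +kernel
theorem chk_par : ∀ i : Fin 128, i ≠ 0 → par i < i ∧ nx (par i) (lab i) = i := by decide +kernel
theorem chk_pinv : ∀ (t : Fin 6) (x : Fin 8), pf (gi t) (pf (gi (iv t)) x) = x := by decide +kernel
theorem chk_iv : ∀ t : Fin 6, iv (iv t) = t := by decide +kernel
theorem chk_m : ∀ (i : Fin 128) (t : Fin 6), mf i.val * mf (gi t) = mf (nx i t).val := by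
  decide +kernel
theorem chk_m0 : mf 0 = 1 := by decide +kernel
theorem chk_minv : ∀ t : Fin 6, mf (gi t) * mf (gi (iv t)) = 1 := by decide +kernel

theorem chk_iso : ∀ (t : Fin 6) (u : (Fin 2 ⊕ Fin 2) ⊕ Fin 2 → ZMod 2),
    Cfsg.quadFormMinus 2 (ZMod 2) 1 1 (Matrix.mulVec (mf (gi t)) u) = Cfsg.quadFormMinus 2 (ZMod 2) 1 1 u := by
  decide +kernel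
theorem chk_ker : ∀ i : Fin 128, (∀ x, pf i.val x = x) ↔ mf i.val = 1 := by
  decide +kernel
theorem chk_card : (Finset.univ.image (fun i : Fin 128 => pf i.val)).card = 128 := by decide +kernel

end Cfsg.Agent.Lib.Helper14.Syl8.D2
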